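import Groth.Agent.Lib.Chev28.IrredDim

/-!
The dimension inequality and the lifting of chains along closed morphisms.
-/

universe u

open CategoryTheory CategoryTheory.Limits AlgebraicGeometry TopologicalSpace Topology

noncomputable section

set_option backward.isDefEq.respectTransparency false

namespace GrothLib.DimIneq9

variable {X Y : Scheme.{u}}

theorem exists_lift_series (f : X ⟶ Y) (hf : IsClosedMap f) :
    ∀ (m : ℕ) (l : LTSeries Y) (x : X), l.length = m → l.last ≤ f x →
      ∃ x' : X, x' ≤ x ∧ f x' = l.head ∧ ((m : ℕ∞) + Order.height x' ≤ Order.height x) := by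
  intro m
  induction m with
  | zero =>
      intro l x hl hx
      obtain ⟨x', hx', hfx'⟩ := hf.specializingMap (Scheme.le_iff_specializes.mp hx)
      have h0 : l.head = l.last := by
        simp only [RelSeries.head, RelSeries.last]
        congr 1
        ext
        simp [hl]
      refine ⟨x', Scheme.le_iff_specializes.mpr hx', hfx'.trans h0.symm, ?_⟩
      rw [Nat.cast_zero, zero_add]
      exact Order.height_mono (Scheme.le_iff_specializes.mpr hx')
  | succ m ih =>
      intro l x hl hx
      have hne : l.length ≠ 0 := by omega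
      obtain ⟨x', hx', hfx', hh⟩ := ih (l.tail hne) x (by simp [hl]) (by simpa using hx)
      have hlt : l.head < (l.tail hne).head := by
        rw [RelSeries.head_tail]
        exact l.strictMono (by
          rw [Fin.lt_def]
          simp [Fin.val_one', Nat.one_mod_eq_one.mpr (by omega : l.length + 1 ≠ 1)])
      obtain ⟨x'', hx'', hfx''⟩ := hf.specializingMap
        (show (f x') ⤳ l.head by rw [hfx']; exact Scheme.le_iff_specializes.mp hlt.le)
      have hlt' : x'' < x' := by
        refine lt_iff_le_not_ge.mpr ⟨Scheme.le_iff_specializes.mpr hx'', fun e => hlt.not_ge ?_⟩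
        rw [← hfx'', ← hfx']
        exact Scheme.le_iff_specializes.mpr ((Scheme.le_iff_specializes.mp e).map f.continuous)
      refine ⟨x'', hlt'.le.trans hx', hfx'', ?_⟩
      calc ((m + 1 : ℕ) : ℕ∞) + Order.height x'' = (m : ℕ∞) + (Order.height x'' + 1) := by
            push_cast; rw [add_assoc, add_comm 1]
        _ ≤ (m : ℕ∞) + Order.height x' := by gcongr; exact Order.height_add_one_le hlt'
        _ ≤ _ := hh

theorem height_head_add_length_le {α : Type*} [Preorder α] (p : LTSeries α) :
    Order.height p.head + p.length ≤ Order.height p.last := by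
  haveI : Nonempty { q : LTSeries α // q.last = p.head } := ⟨⟨RelSeries.singleton _ p.head, rfl⟩⟩
  rw [Order.height_eq_iSup_last_eq, iSup_subtype', ENat.iSup_add]
  · refine iSup_le fun ⟨q, hq⟩ => ?_
    have h := Order.length_le_height_last (p := q.smash p hq)
    simpa using h


theorem add_le_dim_of_isClosedMap [IrreducibleSpace X] [IrreducibleSpace Y] (f : X ⟶ Y)
    (hη : f (genericPoint X) = genericPoint Y) (hf : IsClosedMap f) (t : ℕ)
    (ht : (t : WithBot ℕ∞) ≤ topologicalKrullDim ↥(f.fiber (genericPoint Y))) :
    topologicalKrullDim (Y : Type u) + t ≤ topologicalKrullDim (X : Type u) := by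
  have ht' : ((t : ℕ) : WithBot ℕ∞) ≤ Order.krullDim ↥(f.fiber (genericPoint Y)) :=
    ht.trans (CurvePoints.krullDim_points_eq _).ge
  obtain ⟨p, hp⟩ := Order.le_krullDim_iff.mp ht'
  have hmono : StrictMono (f.fiberι (genericPoint Y)) := by
    intro a b hab
    refine lt_iff_le_not_ge.mpr ⟨Scheme.le_iff_specializes.mpr
      ((Scheme.le_iff_specializes.mp hab.le).map (f.fiberι _).continuous), fun e => hab.not_ge ?_⟩
    exact Scheme.le_iff_specializes.mpr
      ((f.fiberι _).isEmbedding.isInducing.specializes_iff.mp (Scheme.le_iff_specializes.mp e))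
  let p' := p.map _ hmono
  have hfib : f p'.head = genericPoint Y :=
    (f.range_fiberι (genericPoint Y)).le ⟨p.head, (LTSeries.head_map p _ hmono).symm⟩
  have hX : topologicalKrullDim (X : Type u) = Order.krullDim X := (CurvePoints.krullDim_points_eq X).symm
  have hY : topologicalKrullDim (Y : Type u) = Order.krullDim Y := (CurvePoints.krullDim_points_eq Y).symm
  rw [hX, hY]
  rcases isEmpty_or_nonempty Y with hY0 | hY0
  · exact absurd hY0 (not_isEmpty_of_nonempty Y)
  rw [Order.krullDim_eq_iSup_height, add_comm]
  refine GrothLib.AffDom.add_iSup_le t fun y => ?_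
  rw [add_comm]
  have key : (t : ℕ∞) + Order.height y ≤ Order.height p'.last := by
    haveI : Nonempty { q : LTSeries Y // q.last = y } := ⟨⟨RelSeries.singleton _ y, rfl⟩⟩
    rw [Order.height_eq_iSup_last_eq, add_comm, iSup_subtype', ENat.iSup_add]
    refine iSup_le fun ⟨l, hl⟩ => ?_
    obtain ⟨x', -, -, hh⟩ := exists_lift_series f hf l.length l p'.head rfl (by
      rw [hfib]
      exact Scheme.le_iff_specializes.mpr (genericPoint_specializes _))
    calc (l.length : ℕ∞) + t ≤ Order.height p'.head + t :=
          add_le_add (le_trans (by simp) hh) le_rfl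
      _ ≤ _ := (le_of_eq (by rw [show p'.length = t from hp])).trans (height_head_add_length_le p')
  calc (Order.height y : WithBot ℕ∞) + (t : WithBot ℕ∞) ≤ (Order.height p'.last : WithBot ℕ∞) := by
        rw [add_comm]; exact_mod_cast key
    _ ≤ _ := Order.height_le_krullDim _

end GrothLib.DimIneq9
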