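import Groth.Agent.Lib.DimIneq9.Basic

/-!
The dimension bound by transcendence degrees.
-/

universe u

open CategoryTheory CategoryTheory.Limits AlgebraicGeometry TopologicalSpace Topology

noncomputable section

set_option backward.isDefEq.respectTransparency false

namespace GrothLib.DimIneq9

variable {X Y : Scheme.{u}}

theorem closure_mem_irreducibleComponents_of_maximal {ξ : X} (h : ∀ z : X, z ⤳ ξ → z = ξ) :
    closure ({ξ} : Set X) ∈ irreducibleComponents (X : Type u) := by
  refine ⟨isIrreducible_singleton.closure, fun s hs hle => ?_⟩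
  have h1 := hs.isGenericPoint_genericPoint_closure
  have h2 : hs.genericPoint = ξ := h _ (h1.specializes (subset_closure (hle (subset_closure rfl))))
  have h3 : closure ({hs.genericPoint} : Set X) = closure s := h1.def
  rw [← h2, h3]
  exact subset_closure

theorem dim_le_add_of_trdeg_le [IsLocallyNoetherian Y] (f : X ⟶ Y) [LocallyOfFiniteType f] (E : ℕ)
    (hE : ∀ ξ : X, closure {ξ} ∈ irreducibleComponents (X : Type u) → Dual3.resTrdeg f ξ ≤ E) :
    topologicalKrullDim (X : Type u) ≤ topologicalKrullDim (Y : Type u) + E := by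
  haveI := LocallyOfFiniteType.isLocallyNoetherian f
  rw [Chev28.dim_eq_iSup_stalk X]
  refine iSup_le fun x => ?_
  obtain ⟨ξ, hξ, hmax, hd⟩ := Chev28.exists_component_dim_stalk x
  obtain ⟨t, s, a, b, ht, -, ha, hb, hle, -⟩ := GrothLib.Altitude.dim_locQuot_add_trdeg f hξ
  obtain ⟨c, hc, -⟩ := Chev28.exists_nat_dim_stalk (f x)
  have hbc := (Chev28.dim_locQuot_le_stalk (hξ.map f.continuous) b c hb hc).1
  have hE' := hE ξ (closure_mem_irreducibleComponents_of_maximal hmax)
  have htE : t ≤ E := by exact_mod_cast (ht.symm.trans_le hE' :)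
  refine le_trans ?_ (add_le_add (Chev28.dim_stalk_le_dim (f x)) le_rfl)
  rw [← hd, ha, hc]
  exact_mod_cast (show a ≤ c + E by omega)

end GrothLib.DimIneq9
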